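import Cfsg.Agent.Lib.Fpf.SymThreeGroup

/-!
# Fixed point free automorphisms of order three of finite `2`-groups
-/

set_option autoImplicit false
set_option linter.style.haveILetI false

open scoped commutatorElement

namespace CfsgLib.OneToFour

open CfsgLib.SymThree (mul_map_mul_map_eq_one)

variable {N : Type*} [Group N] [Finite N]

theorem commute_map (σ : N ≃* N) (h3 : ∀ g, σ (σ (σ g)) = g) (hfpf : ∀ g, σ g = g → g = 1) (x : N) :
    Commute x (σ x) := by
  have h1 := mul_map_mul_map_eq_one σ h3 hfpf x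
  have h2 := mul_map_mul_map_eq_one σ h3 hfpf x⁻¹
  simp only [map_inv] at h2
  have e1 : σ (σ x) = (σ x)⁻¹ * x⁻¹ := by rw [← mul_inv_rev]; exact eq_inv_of_mul_eq_one_right h1
  have e2 : (σ (σ x))⁻¹ = σ x * x := by
    have := eq_inv_of_mul_eq_one_right h2
    rwa [mul_inv_rev, inv_inv, inv_inv] at this
  rw [e1, mul_inv_rev, inv_inv, inv_inv] at e2
  exact e2

theorem commute_conj (σ : N ≃* N) (h3 : ∀ g, σ (σ (σ g)) = g) (hfpf : ∀ g, σ g = g → g = 1) (x g : N) :
    Commute x (g * x * g⁻¹) := by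
  have aux : ∀ σ : N ≃* N, (∀ g, σ (σ (σ g)) = g) → (∀ g, σ g = g → g = 1) → ∀ y h : N,
      Commute y (h * σ y * h⁻¹) := by
    intro σ h3 hfpf y h
    have hid := mul_map_mul_map_eq_one σ h3 hfpf h
    refine commute_map (σ.trans (MulAut.conj h)) (fun u => ?_) (fun u hu => ?_) y
    · show h * σ (h * σ (h * σ u * h⁻¹) * h⁻¹) * h⁻¹ = u
      simp only [map_mul, map_inv, h3]
      calc _ = (h * σ h * σ (σ h)) * u * (h * σ h * σ (σ h))⁻¹ := by group
        _ = u := by rw [hid]; group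
    · have hinj : Function.Injective (fun z : N => z⁻¹ * σ z) := fun a b hab => by
        have : σ (b * a⁻¹) = b * a⁻¹ := by
          rw [map_mul, map_inv, show σ a = a * (b⁻¹ * σ b) by
            rw [show b⁻¹ * σ b = a⁻¹ * σ a from hab.symm, mul_inv_cancel_left]]
          group
        exact (mul_inv_eq_one.mp (hfpf _ this)).symm
      obtain ⟨z, hz⟩ := Finite.injective_iff_surjective.mp hinj h
      have hu' : z⁻¹ * σ z * σ u * (z⁻¹ * σ z)⁻¹ = u := by
        rw [show z⁻¹ * σ z = h from hz]; exact hu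
      have : σ (z * u * z⁻¹) = z * u * z⁻¹ := by
        rw [map_mul, map_mul, map_inv]
        conv_rhs => rw [← hu']
        group
      have h1 := hfpf _ this
      simpa using h1
  have h1 := aux σ h3 hfpf x g
  have h2 : Commute x (g * σ (σ x) * g⁻¹) :=
    aux (σ.trans σ) (fun u => by simp [h3]) (fun u hu => hfpf u (by
      have := congrArg σ (show σ (σ u) = u from hu)
      rw [h3] at this
      exact this.symm)) x g
  have e : σ x * σ (σ x) = x⁻¹ := eq_inv_of_mul_eq_one_right (by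
    rw [← mul_assoc]; exact mul_map_mul_map_eq_one σ h3 hfpf x)
  have : Commute x (g * x⁻¹ * g⁻¹) := by
    rw [← e, show g * (σ x * σ (σ x)) * g⁻¹ = (g * σ x * g⁻¹) * (g * σ (σ x) * g⁻¹) by group]
    exact h1.mul_right h2
  simpa [mul_assoc] using this.inv_right

/-- **Levi.** A finite `2`-group in which every element commutes with its conjugates has class at
most two. -/
theorem commutator_central_of_commute_conj : ∀ (n : ℕ) {M : Type*} [Group M] [Finite M],
    Nat.card M = n → IsPGroup 2 M → (∀ x g : M, Commute x (g * x * g⁻¹)) →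
    ∀ x y z : M, Commute ⁅x, y⁆ z := by
  intro n
  induction n using Nat.strong_induction_on with
  | _ n ih =>
  intro M _ _ hn hM hE
  rcases subsingleton_or_nontrivial M with h | h
  · intro x y z; exact Subsingleton.elim _ _
  haveI : Fact (Nat.Prime 2) := ⟨Nat.prime_two⟩
  haveI := hM.center_nontrivial
  set Z := Subgroup.center M
  have hlt : Nat.card (M ⧸ Z) < n := by
    rw [← hn, Subgroup.card_eq_card_quotient_mul_card_subgroup Z]
    exact lt_mul_of_one_lt_right Nat.card_pos Finite.one_lt_card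
  have hq := ih _ hlt rfl (hM.to_quotient Z) (fun a b => by
    obtain ⟨x, rfl⟩ := QuotientGroup.mk'_surjective Z a
    obtain ⟨g, rfl⟩ := QuotientGroup.mk'_surjective Z b
    simpa using (hE x g).map (QuotientGroup.mk' Z))
  set f : M → M → M → M := fun x y z => ⁅⁅x, y⁆, z⁆
  have hf : ∀ x y z, f x y z ∈ Z := fun x y z => by
    rw [← QuotientGroup.eq_one_iff]
    show QuotientGroup.mk' Z (f x y z) = 1
    simp only [f, map_commutatorElement]
    exact commutatorElement_eq_one_iff_commute.mpr (hq _ _ _)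
  have hc : ∀ x y z r, f x y z * r = r * f x y z := fun x y z r =>
    (Subgroup.mem_center_iff.mp (hf x y z) r).symm
  have hz : ∀ x y z z', f x y (z * z') = f x y z * f x y z' := fun x y z z' => by
    have e : f x y (z * z') = f x y z * (z * f x y z' * z⁻¹) := by
      simp only [f, commutatorElement_def]; group
    rw [e, ← hc x y z' z, mul_inv_cancel_right]
  have hskew : ∀ x y z, f y x z = (f x y z)⁻¹ := fun x y z => by
    have e : f y x z = ⁅x, y⁆⁻¹ * (f x y z)⁻¹ * ⁅x, y⁆ := by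
      simp only [f, commutatorElement_def]; group
    rw [e, mul_assoc, ← mul_inv_cancel_left ⁅x, y⁆ (f x y z)⁻¹]
    have := hc x y z ⁅x, y⁆
    calc ⁅x, y⁆⁻¹ * ((⁅x, y⁆ * (⁅x, y⁆⁻¹ * (f x y z)⁻¹)) * ⁅x, y⁆)
        = ⁅x, y⁆⁻¹ * ((f x y z)⁻¹ * ⁅x, y⁆) := by group
      _ = ⁅x, y⁆⁻¹ * (⁅x, y⁆ * (f x y z)⁻¹) := by
          rw [(show Commute (f x y z) ⁅x, y⁆ from this).inv_left.eq]
      _ = (f x y z)⁻¹ := by group
      _ = _ := by group
  have hy : ∀ x y y' z, f x (y * y') z = f x y z * f x y' z := fun x y y' z => by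
    set w := ⁅y, ⁅x, y'⁆⁆
    have hw : w ∈ Z := by
      rw [show w = (f x y' y)⁻¹ from (commutatorElement_inv _ _).symm]
      exact inv_mem (hf _ _ _)
    have e : ⁅x, y * y'⁆ = ⁅x, y⁆ * ⁅x, y'⁆ * (⁅x, y'⁆⁻¹ * w * ⁅x, y'⁆) := by
      simp only [w, commutatorElement_def]; group
    have hwz := Subgroup.mem_center_iff.mp hw
    rw [show ⁅x, y'⁆⁻¹ * w * ⁅x, y'⁆ = w by
      rw [mul_assoc, ← hwz, inv_mul_cancel_left]] at e
    show ⁅⁅x, y * y'⁆, z⁆ = _
    rw [e]
    have e2 : ∀ c : M, ⁅c * w, z⁆ = ⁅c, z⁆ := fun c => by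
      rw [commutatorElement_def, commutatorElement_def, mul_assoc c w z, ← hwz z]
      group
    rw [e2]
    have e3 : ⁅⁅x, y⁆ * ⁅x, y'⁆, z⁆ = ⁅x, y⁆ * f x y' z * ⁅x, y⁆⁻¹ * f x y z := by
      simp only [f, commutatorElement_def]; group
    rw [e3, ← hc x y' z ⁅x, y⁆, mul_inv_cancel_right, hc x y' z (f x y z)]
  have hEng : ∀ x y, f y x x = 1 := fun x y => by
    refine commutatorElement_eq_one_iff_commute.mpr ?_
    rw [commutatorElement_def]
    exact ((hE x y).symm.mul_left (Commute.refl x).inv_left)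
  have hswap : ∀ x y z, f y z x = (f y x z)⁻¹ := fun x y z => by
    have := hEng (x * z) y
    rw [hy, hz, hz, hEng, hEng, one_mul, mul_one] at this
    exact eq_inv_of_mul_eq_one_right this
  have hcyc : ∀ x y z, f y z x = f x y z := fun x y z => by rw [hswap, hskew, inv_inv]
  have hconj : ∀ x y b c, f x y (b * c * b⁻¹) = f x y c := fun x y b c => by
    have h1 : f x y 1 = 1 := by simp [f]
    have hb : f x y b * f x y b⁻¹ = 1 := by rw [← hz, mul_inv_cancel, h1]
    rw [hz, hz, mul_assoc, hc x y c (f x y b⁻¹), ← mul_assoc, hb, one_mul]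
  intro x y z
  have hHW : ⁅⁅x, y⁆, y * z * y⁻¹⁆ * ⁅⁅y, z⁆, z * x * z⁻¹⁆ * ⁅⁅z, x⁆, x * y * x⁻¹⁆ = 1 := by
    simp only [commutatorElement_def]; group
  change f x y (y * z * y⁻¹) * f y z (z * x * z⁻¹) * f z x (x * y * x⁻¹) = 1 at hHW
  rw [hconj, hconj, hconj, hcyc x y z, hcyc y z x, hcyc x y z, ← pow_two, ← pow_succ] at hHW
  refine commutatorElement_eq_one_iff_commute.mp ?_
  show f x y z = 1
  obtain ⟨k, hk⟩ := hM (f x y z)
  exact orderOf_eq_one_iff.mp (Nat.eq_one_of_dvd_coprimes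
    (show Nat.Coprime (2 ^ k) 3 from Nat.Coprime.pow_left k (by norm_num))
    (orderOf_dvd_of_pow_eq_one hk) (orderOf_dvd_of_pow_eq_one hHW))

variable (hN : IsPGroup 2 N) (σ : N ≃* N) (h3 : ∀ g, σ (σ (σ g)) = g) (hfpf : ∀ g, σ g = g → g = 1)

include hN h3 hfpf

theorem commutator_central (x y z : N) : Commute ⁅x, y⁆ z :=
  commutator_central_of_commute_conj _ rfl hN (commute_conj σ h3 hfpf) x y z

theorem sq_mem_center (τ : N ≃* N) (hts : ∀ g, τ (σ g) = σ (σ (τ g)))
    (hq : ∀ x, (x * τ x) ^ 2 = 1) (x : N) : x ^ 2 ∈ Subgroup.center N := by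
  have hcl := commutator_central hN σ h3 hfpf
  set Z := Subgroup.center N
  set π := QuotientGroup.mk' Z
  have hcomm : ∀ a b : N ⧸ Z, a * b = b * a := by
    intro a b
    obtain ⟨a, rfl⟩ := QuotientGroup.mk'_surjective Z a
    obtain ⟨b, rfl⟩ := QuotientGroup.mk'_surjective Z b
    rw [← commutatorElement_eq_one_iff_mul_comm, ← map_commutatorElement, QuotientGroup.mk'_apply,
      QuotientGroup.eq_one_iff, Subgroup.mem_center_iff]
    exact fun r => (hcl a b r).eq.symm
  set u := x ^ 2 with hu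
  have hsig : ∀ z ∈ Z, ∀ e : N ≃* N, e z ∈ Z := fun z hz e =>
    Subgroup.mem_center_iff.mpr fun r => by
      obtain ⟨r, rfl⟩ := e.surjective r
      rw [← map_mul, ← map_mul, Subgroup.mem_center_iff.mp hz r]
  have hanti : ∀ y, π (y ^ 2) * π (τ (y ^ 2)) = 1 := fun y => by
    rw [← map_mul, map_pow τ]
    have : π ((y * τ y) ^ 2) = π (y ^ 2 * τ y ^ 2) := by
      simp only [map_pow, map_mul]
      exact (show Commute (π y) (π (τ y)) from hcomm _ _).mul_pow 2
    rw [← this, hq, map_one]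
  -- `σ u ≡ u`
  have h1 := hanti x
  have h2 := hanti (σ x)
  rw [← map_pow σ, hts, ← hu] at h2
  rw [← hu] at h1
  have h1' : π (σ (σ u)) * π (σ (σ (τ u))) = 1 := by
    rw [← map_mul, ← map_mul σ, ← map_mul σ]
    have hz : u * τ u ∈ Z := by
      rw [← QuotientGroup.eq_one_iff]
      show π (u * τ u) = 1
      rw [map_mul, h1]
    rw [QuotientGroup.mk'_apply, QuotientGroup.eq_one_iff]
    exact hsig _ (hsig _ hz σ) σ
  have he : π (σ (σ u)) = π (σ u) := mul_right_cancel (h1'.trans h2.symm)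
  have he' : σ u * u⁻¹ ∈ Z := by
    have hz : (σ u)⁻¹ * σ (σ u) ∈ Z := by
      rw [← QuotientGroup.eq_one_iff]
      show π ((σ u)⁻¹ * σ (σ u)) = 1
      rw [map_mul, map_inv, he, inv_mul_cancel]
    have hz' := hsig _ hz (σ.trans σ)
    simp only [MulEquiv.trans_apply, map_mul, map_inv, h3] at hz'
    have h5 := Subgroup.Normal.conj_mem inferInstance _ hz' u
    simpa [mul_assoc] using h5
  set z := σ u * u⁻¹
  obtain ⟨w, hw⟩ : ∃ w : Z, (w : N)⁻¹ * σ w = z := by
    have hinj : Function.Injective (fun v : Z => (⟨(v : N)⁻¹ * σ v, mul_mem (inv_mem v.2) (hsig _ v.2 σ)⟩ : Z)) := by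
      intro a b hab
      have hab' : (a : N)⁻¹ * σ a = (b : N)⁻¹ * σ b := congrArg Subtype.val hab
      have : σ ((b : N) * (a : N)⁻¹) = (b : N) * (a : N)⁻¹ := by
        rw [map_mul, map_inv, show σ (a : N) = a * ((b : N)⁻¹ * σ b) by rw [← hab', mul_inv_cancel_left]]
        group
      exact Subtype.ext (mul_inv_eq_one.mp (hfpf _ this)).symm
    obtain ⟨w, hw⟩ := Finite.injective_iff_surjective.mp hinj ⟨z, he'⟩
    exact ⟨w, congrArg Subtype.val hw⟩
  have hfix : σ (u * (w : N)⁻¹) = u * (w : N)⁻¹ := by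
    have hcw : ∀ r, r * (w : N) = w * r := Subgroup.mem_center_iff.mp w.2
    rw [map_mul, map_inv, show σ u = z * u by simp [z], ← hw]
    calc (w : N)⁻¹ * σ w * u * (σ w)⁻¹ = (w : N)⁻¹ * (σ w * u * (σ w)⁻¹) := by group
      _ = (w : N)⁻¹ * u := by
          rw [← Subgroup.mem_center_iff.mp (hsig _ w.2 σ) u, mul_inv_cancel_right]
      _ = u * (w : N)⁻¹ := ((Commute.inv_right (hcw u)).eq).symm
  rw [mul_inv_eq_one.mp (hfpf _ hfix)]
  exact w.2

/-- With an inverting involution whose coset has elements of order at most four, the group is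
elementary abelian. -/
theorem elementary_of_sym_three (τ : N ≃* N) (hts : ∀ g, τ (σ g) = σ (σ (τ g))) (hτ : ∀ g, τ (τ g) = g)
    (hq : ∀ x, (x * τ x) ^ 2 = 1) : (∀ x y : N, x * y = y * x) ∧ ∀ x : N, x ^ 2 = 1 := by
  have hcl := commutator_central hN σ h3 hfpf
  have hsqZ := sq_mem_center hN σ h3 hfpf τ hts hq
  set Z := Subgroup.center N
  set f : N → N → N := fun a b => ⁅a, b⁆
  have hfc : ∀ a b r, r * f a b = f a b * r := fun a b r => (hcl a b r).eq.symm
  have hl : ∀ a a' b, f (a * a') b = f a b * f a' b := fun a a' b => by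
    have e : f (a * a') b = a * f a' b * a⁻¹ * f a b := by simp only [f, commutatorElement_def]; group
    rw [e, hfc a' b a, mul_inv_cancel_right, hfc a b]
  have hr : ∀ a b b', f a (b * b') = f a b * f a b' := fun a b b' => by
    have e : f a (b * b') = f a b * (b * f a b' * b⁻¹) := by simp only [f, commutatorElement_def]; group
    rw [e, hfc a b' b, mul_inv_cancel_right]
  have hzl : ∀ z ∈ Z, ∀ b, f z b = 1 := fun z hz b =>
    commutatorElement_eq_one_iff_mul_comm.mpr (Subgroup.mem_center_iff.mp hz b).symm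
  have hzr : ∀ z ∈ Z, ∀ b, f b z = 1 := fun z hz b =>
    commutatorElement_eq_one_iff_mul_comm.mpr (Subgroup.mem_center_iff.mp hz b)
  have hf2 : ∀ a b, f a b * f a b = 1 := fun a b => by rw [← hl, ← pow_two, hzl _ (hsqZ a) b]
  -- the center has exponent two
  have hZ2 : ∀ z ∈ Z, z ^ 2 = 1 := fun z hz => by
    have hsig : ∀ e : N ≃* N, e z ∈ Z := fun e => Subgroup.mem_center_iff.mpr fun r => by
      obtain ⟨r, rfl⟩ := e.surjective r
      rw [← map_mul, ← map_mul, Subgroup.mem_center_iff.mp hz r]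
    have h1 : ∀ v ∈ Z, τ (v ^ 2) = (v ^ 2)⁻¹ := fun v hv => by
      have := hq v
      rw [(show Commute v (τ v) from (Subgroup.mem_center_iff.mp hv (τ v)).symm).mul_pow] at this
      rw [map_pow]
      exact eq_inv_of_mul_eq_one_right this
    have h2 := h1 _ (hsig σ)
    rw [← map_pow, hts, h1 z hz, map_inv, map_inv, inv_inj] at h2
    exact hfpf _ (σ.injective h2)
  set U : N → N := fun x => x * τ x
  have hU : ∀ x, U x ^ 2 = 1 := hq
  set π := QuotientGroup.mk' Z
  have hcomm : ∀ a b : N ⧸ Z, a * b = b * a := by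
    intro a b
    obtain ⟨a, rfl⟩ := QuotientGroup.mk'_surjective Z a
    obtain ⟨b, rfl⟩ := QuotientGroup.mk'_surjective Z b
    rw [← commutatorElement_eq_one_iff_mul_comm, ← map_commutatorElement, QuotientGroup.mk'_apply,
      QuotientGroup.eq_one_iff, Subgroup.mem_center_iff]
    exact fun r => hfc a b r
  letI : CommGroup (N ⧸ Z) := { (inferInstance : Group (N ⧸ Z)) with mul_comm := hcomm }
  have hπ2 : ∀ a, π a * π a = 1 := fun a => by
    rw [← map_mul, ← pow_two, QuotientGroup.mk'_apply, QuotientGroup.eq_one_iff]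
    exact hsqZ a
  have hUU : ∀ a b, f (U a) (U b) = 1 := fun a b => by
    obtain ⟨z, hz, he⟩ : ∃ z ∈ Z, U (a * b) = U a * U b * z := by
      refine ⟨(U a * U b)⁻¹ * U (a * b), ?_, (mul_inv_cancel_left _ _).symm⟩
      rw [← QuotientGroup.eq_one_iff]
      show π _ = 1
      simp only [U, map_mul, map_inv]
      rw [inv_mul_eq_one, mul_mul_mul_comm]
    have h := hU (a * b)
    rw [he, (show Commute (U a * U b) z from Subgroup.mem_center_iff.mp hz _).mul_pow, hZ2 z hz, mul_one,
      pow_two] at h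
    show U a * U b * (U a)⁻¹ * (U b)⁻¹ = 1
    have ha : (U a)⁻¹ = U a := inv_eq_of_mul_eq_one_right (by rw [← pow_two]; exact hU a)
    have hb : (U b)⁻¹ = U b := inv_eq_of_mul_eq_one_right (by rw [← pow_two]; exact hU b)
    rw [ha, hb, mul_assoc (U a * U b)]
    exact h
  -- every element is a product `a * σ b` modulo the centre
  have hdec : ∀ x, ∃ a b z, z ∈ Z ∧ x = U a * σ (U b) * z := fun x => by
    refine ⟨x * σ x, σ x * σ (σ x), _, ?_, (mul_inv_cancel_left _ x).symm⟩
    rw [← QuotientGroup.eq_one_iff]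
    show π _ = 1
    rw [map_mul, map_inv, inv_mul_eq_one]
    have hid : π x * π (σ x) * π (σ (σ x)) = 1 := by
      rw [← map_mul, ← map_mul, mul_map_mul_map_eq_one σ h3 hfpf x, map_one]
    have e1 : τ (σ x) = σ (σ (τ x)) := hts x
    have e2 : σ (τ (σ x)) = τ x := by rw [e1, h3]
    have e3 : σ (τ (σ (σ x))) = σ (σ (τ x)) := by rw [hts, h3, hts]
    simp only [U, map_mul]
    rw [h3, e2, e3, e1]
    calc π x * π (σ x) * (π (τ x) * π (σ (σ (τ x)))) *
          (π (σ (σ x)) * π x * (π (τ x) * π (σ (σ (τ x)))))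
        = (π x * π (σ x) * π (σ (σ x))) * π x * (π (τ x) * π (τ x)) *
            (π (σ (σ (τ x))) * π (σ (σ (τ x)))) := by ac_rfl
      _ = π x := by rw [hid, hπ2, hπ2, one_mul, mul_one, mul_one]
  have hτU : ∀ a, ∃ z ∈ Z, τ (U a) = U a * z := fun a => by
    refine ⟨(U a)⁻¹ * τ (U a), ?_, (mul_inv_cancel_left _ _).symm⟩
    rw [← QuotientGroup.eq_one_iff]
    show π _ = 1
    simp only [U, map_mul, map_inv, hτ]
    rw [mul_comm (π (τ a)) (π a), inv_mul_cancel]
  have hτmap : ∀ a b, τ (f a b) = f (τ a) (τ b) := fun a b => map_commutatorElement _ _ _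
  -- `τ` fixes the values `f (U a) (σ (U d))`
  have hB : ∀ a d, τ (f (U a) (σ (U d))) = f (U a) (σ (U d)) := fun a d => by
    obtain ⟨z, hz, he⟩ := hτU a
    obtain ⟨z', hz', he'⟩ := hτU d
    have hz'' : σ (σ z') ∈ Z := Subgroup.mem_center_iff.mpr fun r => by
      obtain ⟨r, rfl⟩ := (σ.trans σ).surjective r
      show σ (σ r) * σ (σ z') = _
      rw [← map_mul, ← map_mul, Subgroup.mem_center_iff.mp hz' r, map_mul, map_mul]
      rfl
    rw [hτmap, hts, he, he', map_mul, map_mul, hl, hzl z hz, mul_one, hr, hzr _ hz'', mul_one]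
    set v := U d
    have hv : σ (σ v) = (v * σ v)⁻¹ := eq_inv_of_mul_eq_one_right (mul_map_mul_map_eq_one σ h3 hfpf v)
    have hinv : f (U a) (v * σ v) * f (U a) (v * σ v)⁻¹ = 1 := by
      rw [← hr, mul_inv_cancel]; exact commutatorElement_one_right _
    rw [hv, eq_inv_of_mul_eq_one_right hinv, hr, hUU, one_mul]
    exact inv_eq_of_mul_eq_one_right (hf2 _ _)
  have hall : ∀ x y, τ (f x y) = f x y := fun x y => by
    obtain ⟨a, b, z, hz, rfl⟩ := hdec x
    obtain ⟨c, d, z', hz', rfl⟩ := hdec y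
    have h1 : f (σ (U b)) (σ (U d)) = 1 := by
      show ⁅σ (U b), σ (U d)⁆ = 1
      rw [← map_commutatorElement, show ⁅U b, U d⁆ = 1 from hUU b d, map_one]
    have h2 : f (σ (U b)) (U c) = (f (U c) (σ (U b)))⁻¹ := (commutatorElement_inv _ _).symm
    simp only [hl, hr, hzl z hz, hzr z' hz', mul_one, one_mul, hUU, h1, h2, map_mul, map_inv, map_one, hB]
  have hone : ∀ x y, f x y = 1 := fun x y => by
    refine hfpf _ ?_
    have h1 := hall (σ x) (σ y)
    rw [show f (σ x) (σ y) = σ (f x y) from (map_commutatorElement _ _ _).symm, hts, hall] at h1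
    exact σ.injective h1
  have hab : ∀ x y : N, x * y = y * x := fun x y => commutatorElement_eq_one_iff_mul_comm.mp (hone x y)
  exact ⟨hab, fun x => hZ2 x (Subgroup.mem_center_iff.mpr fun r => hab r x)⟩

end CfsgLib.OneToFour
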